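import Cfsg.Agent.Lib.Invol.HigmanTwo

/-!
The alternating group of degree five acting on an abelian group with fixed-point-free elements of
order three: the group is a 2-group and the elements of order five act fixed-point-freely.
-/

set_option autoImplicit false

namespace CfsgLib.InvChar.SecNineOpen

open Equiv

local instance : DecidablePred (· ∈ alternatingGroup (Fin 5)) := fun _ =>
  decidable_of_iff _ Equiv.Perm.mem_alternatingGroup.symm

/-- The fixed-point-free condition on the elements of order three. -/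
def ThreeFree {V : Type*} [CommGroup V] (ρ : alternatingGroup (Fin 5) →* MulAut V) : Prop :=
  ∀ a : alternatingGroup (Fin 5), a ^ 3 = 1 → a ≠ 1 → ∀ x, ρ a x = x → x = 1

variable {V : Type*} [CommGroup V] [Finite V] {ρ : alternatingGroup (Fin 5) →* MulAut V}

omit [Finite V] in
/-- It suffices to know one element of order three. -/
theorem threeFree_of_one {k : alternatingGroup (Fin 5)} (hk : k ^ 3 = 1) (hk1 : k ≠ 1)
    (h : ∀ x, ρ k x = x → x = 1) : ThreeFree ρ := by
  intro a ha ha1 x hx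
  have hconj : ∀ a b : alternatingGroup (Fin 5), a ^ 3 = 1 → a ≠ 1 → b ^ 3 = 1 → b ≠ 1 →
      ∃ g, g * a * g⁻¹ = b := by
    decide +kernel
  obtain ⟨g, hg⟩ := hconj a k ha ha1 hk hk1
  refine (ρ g).injective ?_
  rw [map_one]
  refine h _ ?_
  rw [← hg, ← MulAut.mul_apply, ← map_mul, inv_mul_cancel_right, map_mul, MulAut.mul_apply, hx]

theorem ThreeFree.norm (h : ThreeFree ρ) {a : alternatingGroup (Fin 5)} (ha : a ^ 3 = 1)
    (ha1 : a ≠ 1) (x : V) : x * ρ a x * ρ (a * a) x = 1 := by
  have h3 : ∀ y, ρ a (ρ a (ρ a y)) = y := fun y => by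
    rw [← MulAut.mul_apply, ← MulAut.mul_apply, ← map_mul, ← map_mul, ← pow_two, ← pow_succ, ha,
      map_one, MulAut.one_apply]
  rw [map_mul, MulAut.mul_apply]
  exact Invol.fpf_three_norm (ρ a) h3 (h a ha ha1) x

/-- The four-group norm is the fourth power. -/
theorem ThreeFree.four_norm (h : ThreeFree ρ) {a u v : alternatingGroup (Fin 5)} (x : V)
    (ha : a ^ 3 = 1) (ha1 : a ≠ 1) (hua : (u * a) ^ 3 = 1) (hua1 : u * a ≠ 1)
    (hva : (v * a) ^ 3 = 1) (hva1 : v * a ≠ 1) (hwa : (u * v * a) ^ 3 = 1) (hwa1 : u * v * a ≠ 1)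
    (e1 : u * a * (u * a) = u * v * (a * a)) (e2 : v * a * (v * a) = u * (a * a))
    (e3 : u * v * a * (u * v * a) = v * (a * a)) :
    x * ρ u x * ρ v x * ρ (u * v) x = x ^ 4 := by
  have h0 := h.norm ha ha1 x
  have h1 := h.norm hua hua1 x
  have h2 := h.norm hva hva1 x
  have h3 := h.norm hwa hwa1 x
  rw [e1, map_mul ρ (u * v), MulAut.mul_apply, map_mul ρ u a, MulAut.mul_apply] at h1
  rw [e2, map_mul ρ v a, MulAut.mul_apply, map_mul ρ u (a * a), MulAut.mul_apply] at h2
  rw [e3, map_mul ρ (u * v) a, MulAut.mul_apply, map_mul ρ v (a * a), MulAut.mul_apply] at h3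
  set p := ρ a x with hp
  set q := ρ (a * a) x with hq
  have hx : p * q = x⁻¹ := eq_inv_of_mul_eq_one_right (by rw [← mul_assoc]; exact h0)
  have key : (x * p * q) * (x * ρ u p * ρ (u * v) q) * (x * ρ v p * ρ u q) *
      (x * ρ (u * v) p * ρ v q) =
      x ^ 4 * ((p * q) * ρ u (p * q) * ρ v (p * q) * ρ (u * v) (p * q)) := by
    simp only [map_mul, pow_succ, pow_zero, one_mul]
    ac_rfl
  rw [h0, h1, h2, h3, one_mul, one_mul, one_mul, hx, map_inv, map_inv, map_inv, ← mul_inv,
    ← mul_inv, ← mul_inv, eq_comm, mul_inv_eq_one] at key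
  exact key.symm

/-- Elements of odd order are trivial. -/
theorem ThreeFree.eq_one_of_odd (h : ThreeFree ρ) {x : V} (hx : Odd (orderOf x)) : x = 1 := by
  let u : alternatingGroup (Fin 5) := ⟨swap 0 1 * swap 2 3, by decide⟩
  let v : alternatingGroup (Fin 5) := ⟨swap 0 2 * swap 1 3, by decide⟩
  let a : alternatingGroup (Fin 5) := ⟨swap 1 2 * swap 0 1, by decide⟩
  let a' : alternatingGroup (Fin 5) := ⟨(swap 1 2 * swap 0 1) ^ 2, by decide⟩
  have hor : (u * a * (u * a) = u * v * (a * a) ∧ v * a * (v * a) = u * (a * a) ∧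
      u * v * a * (u * v * a) = v * (a * a)) ∨
      (u * a' * (u * a') = u * v * (a' * a') ∧ v * a' * (v * a') = u * (a' * a') ∧
      u * v * a' * (u * v * a') = v * (a' * a')) := by decide +kernel
  have hnorm : ∀ y, y * ρ u y * ρ v y * ρ (u * v) y = y ^ 4 := fun y => by
    rcases hor with ⟨e1, e2, e3⟩ | ⟨e1, e2, e3⟩
    · exact h.four_norm y (by decide +kernel) (by decide +kernel) (by decide +kernel)
        (by decide +kernel) (by decide +kernel) (by decide +kernel) (by decide +kernel)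
        (by decide +kernel) e1 e2 e3
    · exact h.four_norm y (by decide +kernel) (by decide +kernel) (by decide +kernel)
        (by decide +kernel) (by decide +kernel) (by decide +kernel) (by decide +kernel)
        (by decide +kernel) e1 e2 e3
  have hu4 : ∀ y, ρ u (y ^ 4) = y ^ 4 := fun y => by
    rw [← hnorm y, map_mul, map_mul, map_mul, ← MulAut.mul_apply, ← map_mul, ← MulAut.mul_apply,
      ← map_mul, ← MulAut.mul_apply, ← map_mul,
      show u * u = 1 by decide +kernel, show u * (u * v) = v by decide +kernel,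
      map_one, MulAut.one_apply]
    ac_rfl
  have hfix : ∀ (y : V), Odd (orderOf y) → ρ u y = y := by
    intro y hy
    obtain ⟨z, hz⟩ := exists_pow_eq_self_of_coprime
      (Nat.Coprime.pow_left 2 (Nat.coprime_two_left.2 hy))
    rw [← hz, ← pow_mul, mul_comm, pow_mul]
    exact hu4 _
  have hall : ∀ g : alternatingGroup (Fin 5), ∀ y : V, Odd (orderOf y) →
      ρ (g * u * g⁻¹) y = y := by
    intro g y hy
    rw [map_mul, map_mul, MulAut.mul_apply, MulAut.mul_apply,
      hfix _ (by rwa [MulEquiv.orderOf_eq]), ← MulAut.mul_apply, ← map_mul, mul_inv_cancel,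
      map_one, MulAut.one_apply]
  obtain ⟨g₁, g₂, hg⟩ : ∃ g₁ g₂ : alternatingGroup (Fin 5),
      g₁ * u * g₁⁻¹ * (g₂ * u * g₂⁻¹) = a := by decide +kernel
  refine h a (by decide +kernel) (by decide +kernel) x ?_
  rw [← hg, map_mul, MulAut.mul_apply, hall g₂ x hx, hall g₁ x hx]

theorem ThreeFree.isPGroup (h : ThreeFree ρ) : IsPGroup 2 V := by
  intro x
  obtain ⟨e, d, hd, he⟩ := Nat.exists_eq_two_pow_mul_odd (orderOf_pos x).ne'
  refine ⟨e, h.eq_one_of_odd ?_⟩
  rw [orderOf_pow_of_dvd (pow_ne_zero _ (by norm_num)) (Dvd.intro d he.symm), he,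
    Nat.mul_div_cancel_left _ (by positivity)]
  exact hd

/-- Elements of order five act without fixed points. -/
theorem ThreeFree.five_fixed (h : ThreeFree ρ) {y : alternatingGroup (Fin 5)}
    (hy : (y : Perm (Fin 5)) = finRotate 5) {x : V} (hx : ρ y x = x) : x = 1 := by
  obtain rfl : y = ⟨finRotate 5, by decide⟩ := Subtype.ext hy
  set y : alternatingGroup (Fin 5) := ⟨finRotate 5, by decide⟩ with hydef
  let t : alternatingGroup (Fin 5) := ⟨swap 1 4 * swap 2 3, by decide⟩
  let a : alternatingGroup (Fin 5) := ⟨swap 2 3 * swap 3 4, by decide⟩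
  have ht : t * t = 1 := by decide +kernel
  have hty : t * y * t = y⁻¹ := by decide +kernel
  have ha : a ^ 3 = 1 := by decide +kernel
  have ha1 : a ≠ 1 := by decide +kernel
  have hb : (a * y⁻¹) ^ 3 = 1 := by decide +kernel
  have hb1 : a * y⁻¹ ≠ 1 := by decide +kernel
  have hword : a = y⁻¹ * (a * y⁻¹ * a⁻¹)⁻¹ * t := by decide +kernel
  have hyinv : ∀ w, ρ y w = w → ρ y⁻¹ w = w := fun w hw => by
    conv_lhs => rw [← hw]
    rw [← MulAut.mul_apply, ← map_mul, inv_mul_cancel, map_one, MulAut.one_apply]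
  have hkey : ∀ w, ρ y w = w → ρ t w = w → w = 1 := by
    intro w hwy hwt
    have hab : ρ (a * y⁻¹) w = ρ a w := by rw [map_mul, MulAut.mul_apply, hyinv w hwy]
    have n1 := h.norm ha ha1 w
    have n2 := h.norm hb hb1 w
    rw [hab] at n2
    have heq : ρ (a * a) w = ρ (a * y⁻¹ * (a * y⁻¹)) w := mul_left_cancel (n1.trans n2.symm)
    set b := a * y⁻¹ with hbdef
    have hinv3 : ∀ c : alternatingGroup (Fin 5), c ^ 3 = 1 → c⁻¹ = c * c := fun c hc =>
      inv_eq_of_mul_eq_one_right (by rw [← mul_assoc, ← pow_two, ← pow_succ, hc])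
    rw [← hinv3 a ha, ← hinv3 b hb] at heq
    have hg : ρ (b * a⁻¹) w = w := by
      rw [map_mul, MulAut.mul_apply, heq, ← MulAut.mul_apply, ← map_mul, mul_inv_cancel, map_one,
        MulAut.one_apply]
    have hg' : ρ (b * a⁻¹)⁻¹ w = w := by
      conv_lhs => rw [← hg]
      rw [← MulAut.mul_apply, ← map_mul, inv_mul_cancel, map_one, MulAut.one_apply]
    refine h a ha ha1 w ?_
    rw [hword, map_mul, MulAut.mul_apply, hwt, map_mul, MulAut.mul_apply, hg', hyinv w hwy]
  have htx : ρ y (ρ t x) = ρ t x := by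
    rw [← MulAut.mul_apply, ← map_mul,
      show y * t = t * y⁻¹ by rw [← hty, ← mul_assoc, ← mul_assoc, ht, one_mul],
      map_mul, MulAut.mul_apply, hyinv x hx]
  have h1 : x * ρ t x = 1 := hkey _ (by rw [map_mul, hx, htx]) (by
    rw [map_mul, ← MulAut.mul_apply, ← map_mul, ht, map_one, MulAut.one_apply, mul_comm])
  have h2 : ρ t x = x⁻¹ := eq_inv_of_mul_eq_one_right h1
  -- involutions are fixed, so `x` has order two at most
  obtain ⟨n, hn⟩ := h.isPGroup x
  clear h1
  clear_value y
  induction n generalizing x with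
  | zero => simpa using hn
  | succ n ih =>
    have hx2 : x ^ 2 = 1 := by
      refine ih (x := x ^ 2) (by rw [map_pow, hx]) (by rw [map_pow (ρ t), map_pow, htx]) (by
        rw [map_pow, h2, inv_pow]) ?_
      rw [← pow_mul, ← pow_succ']; exact hn
    exact hkey x hx (by rw [h2]; exact inv_eq_of_mul_eq_one_right (by rw [← pow_two, hx2]))

/-- Every element of order five acts without fixed points. -/
theorem ThreeFree.five (h : ThreeFree ρ) {y : alternatingGroup (Fin 5)} (hy : y ^ 5 = 1)
    (hy1 : y ≠ 1) {x : V} (hx : ρ y x = x) : x = 1 := by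
  have hconj : ∀ y : alternatingGroup (Fin 5), y ^ 5 = 1 → y ≠ 1 → ∃ g : alternatingGroup (Fin 5),
      ((g * y * g⁻¹ : alternatingGroup (Fin 5)) : Perm (Fin 5)) = finRotate 5 ∨
      ((g * (y * y) * g⁻¹ : alternatingGroup (Fin 5)) : Perm (Fin 5)) = finRotate 5 := by
    decide +kernel
  obtain ⟨g, hg⟩ := hconj y hy hy1
  refine (ρ g).injective ?_
  rw [map_one]
  rcases hg with hg | hg
  · refine h.five_fixed hg ?_
    rw [← MulAut.mul_apply, ← map_mul, inv_mul_cancel_right, map_mul, MulAut.mul_apply, hx]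
  · refine h.five_fixed hg ?_
    rw [← MulAut.mul_apply, ← map_mul, inv_mul_cancel_right, map_mul, MulAut.mul_apply, map_mul,
      MulAut.mul_apply, hx, hx]

end CfsgLib.InvChar.SecNineOpen
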