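import Cfsg.Agent.Lib.Invol.HigmanTwo

/-!
A 2-group with two subgroups of index 2, each with a fixed-point-free element of order three
inverted from outside: the subgroups have order four.
-/

set_option autoImplicit false

namespace CfsgLib.InvChar.SecNineOpen

open Subgroup
open scoped commutatorElement

universe u

variable {G : Type u} [Group G]

/-- `P` has index 2 in `T`, `k` of order three acts fixed-point-freely on `P` and is inverted by
an element of `T` outside `P`. -/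
structure Turn (T P : Subgroup G) (k : G) : Prop where
  le : P ≤ T
  index : P.relIndex T = 2
  cube : k ^ 3 = 1
  maps : ∀ x ∈ P, k * x * k⁻¹ ∈ P
  fpf : ∀ x ∈ P, k * x = x * k → x = 1
  invert : ∃ t ∈ T, t ∉ P ∧ t * k * t⁻¹ = k⁻¹

namespace Turn

variable {T P : Subgroup G} {k : G}

theorem mul_mem_iff (h : Turn T P k) {a b : G} (ha : a ∈ T) (hb : b ∈ T) :
    a * b ∈ P ↔ (a ∈ P ↔ b ∈ P) := by
  have := (Subgroup.mul_mem_iff_of_index_two (H := P.subgroupOf T) h.index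
    (a := (⟨a, ha⟩ : ↥T)) (b := ⟨b, hb⟩))
  simpa [mem_subgroupOf] using this

theorem conj_mem (h : Turn T P k) {t x : G} (ht : t ∈ T) (hx : x ∈ P) : t * x * t⁻¹ ∈ P := by
  rw [h.mul_mem_iff (mul_mem ht (h.le hx)) (inv_mem ht), h.mul_mem_iff ht (h.le hx), inv_mem_iff]
  exact ⟨fun e => e.2 hx, fun e => ⟨fun _ => hx, fun _ => e⟩⟩

theorem commutator_mem (h : Turn T P k) {a b : G} (ha : a ∈ T) (hb : b ∈ T) : ⁅a, b⁆ ∈ P := by
  rw [commutatorElement_def, h.mul_mem_iff (mul_mem (mul_mem ha hb) (inv_mem ha)) (inv_mem hb),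
    h.mul_mem_iff (mul_mem ha hb) (inv_mem ha), h.mul_mem_iff ha hb, inv_mem_iff, inv_mem_iff]
  tauto

theorem maps_inv (h : Turn T P k) {x : G} (hx : x ∈ P) : k⁻¹ * x * k ∈ P := by
  have hk : k⁻¹ = k ^ 2 := inv_eq_of_mul_eq_one_right (by rw [← pow_succ', h.cube])
  have h2 := h.maps _ (h.maps x hx)
  rw [show k * (k * x * k⁻¹) * k⁻¹ = k ^ 2 * x * (k ^ 2)⁻¹ by rw [pow_two]; group, ← hk,
    inv_inv] at h2
  exact h2

/-- The action of `k` on `P`. -/
def aut (h : Turn T P k) : MulAut ↥P where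
  toFun x := ⟨k * x * k⁻¹, h.maps x x.2⟩
  invFun x := ⟨k⁻¹ * x * k, h.maps_inv x.2⟩
  left_inv x := Subtype.ext (by group)
  right_inv x := Subtype.ext (by group)
  map_mul' x y := Subtype.ext (by
    show k * ((x : G) * y) * k⁻¹ = k * x * k⁻¹ * (k * y * k⁻¹)
    group)

theorem aut_cube (h : Turn T P k) (x : ↥P) : h.aut (h.aut (h.aut x)) = x := by
  refine Subtype.ext ?_
  show k * (k * (k * (x : G) * k⁻¹) * k⁻¹) * k⁻¹ = x
  rw [show k * (k * (k * (x : G) * k⁻¹) * k⁻¹) * k⁻¹ = k ^ 3 * x * (k ^ 3)⁻¹ by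
      simp only [pow_succ, pow_zero, one_mul, mul_inv_rev, mul_assoc], h.cube]
  simp

theorem aut_fpf (h : Turn T P k) (x : ↥P) (hx : h.aut x = x) : x = 1 := by
  have hx' : k * (x : G) * k⁻¹ = x := congrArg Subtype.val hx
  exact Subtype.ext (h.fpf x x.2 (mul_inv_eq_iff_eq_mul.1 hx'))

theorem norm_eq (h : Turn T P k) [Finite G] {x : G} (hx : x ∈ P) :
    x * (k * x * k⁻¹) * (k * (k * x * k⁻¹) * k⁻¹) = 1 :=
  congrArg Subtype.val (Invol.fpf_three_norm h.aut h.aut_cube h.aut_fpf ⟨x, hx⟩)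

theorem class_two (h : Turn T P k) [Finite G] (hT : IsPGroup 2 ↥T) {a b c : G} (ha : a ∈ P)
    (hb : b ∈ P) (hc : c ∈ P) : Commute ⁅a, b⁆ c := by
  have := (Invol.class_two_of_fpf_three _ rfl (hT.to_le h.le) h.aut h.aut_cube h.aut_fpf
    ⟨a, ha⟩ ⟨b, hb⟩ ⟨c, hc⟩).map P.subtype
  simpa [commutatorElement_def] using this

/-- An element of `P` with at most two commutators with `P` is central in `P`. -/
theorem central_of_two (h : Turn T P k) [Finite G] (hT : IsPGroup 2 ↥T) {u e : G} (hu : u ∈ P)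
    (he : ∀ x ∈ P, ⁅u, x⁆ = 1 ∨ ⁅u, x⁆ = e) : ∀ x ∈ P, u * x = x * u := by
  by_contra hcon
  push Not at hcon
  obtain ⟨x₀, hx₀, hne⟩ := hcon
  have hne' : ⁅u, x₀⁆ ≠ 1 := fun e1 => hne (commutatorElement_eq_one_iff_mul_comm.1 e1)
  have hex₀ : ⁅u, x₀⁆ = e := (he x₀ hx₀).resolve_left hne'
  have he1 : e ≠ 1 := fun e1 => hne' (hex₀.trans e1)
  have hmulr : ∀ v x y : G, v ∈ P → x ∈ P → y ∈ P → ⁅v, x * y⁆ = ⁅v, x⁆ * ⁅v, y⁆ := by
    intro v x y hv hx hy
    have hc : x * ⁅v, y⁆ * x⁻¹ = ⁅v, y⁆ := by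
      rw [← (h.class_two hT hv hy hx).eq, mul_inv_cancel_right]
    calc ⁅v, x * y⁆ = ⁅v, x⁆ * (x * ⁅v, y⁆ * x⁻¹) := by simp only [commutatorElement_def]; group
      _ = _ := by rw [hc]
  have hmull : ∀ v w x : G, v ∈ P → w ∈ P → x ∈ P → ⁅v * w, x⁆ = ⁅v, x⁆ * ⁅w, x⁆ := by
    intro v w x hv hw hx
    have hc : v * ⁅w, x⁆ * v⁻¹ = ⁅w, x⁆ := by
      rw [← (h.class_two hT hw hx hv).eq, mul_inv_cancel_right]
    calc ⁅v * w, x⁆ = v * ⁅w, x⁆ * v⁻¹ * ⁅v, x⁆ := by simp only [commutatorElement_def]; group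
      _ = ⁅v, x⁆ * ⁅w, x⁆ := by
        rw [hc]; exact (h.class_two hT hw hx (mul_mem (mul_mem (mul_mem hv hx) (inv_mem hv))
          (inv_mem hx))).eq
  have hconj : ∀ v x : G, ⁅k * v * k⁻¹, k * x * k⁻¹⁆ = k * ⁅v, x⁆ * k⁻¹ := fun v x => by
    simp only [commutatorElement_def]; group
  have hcube : ∀ x : G, k * (k * (k * x * k⁻¹) * k⁻¹) * k⁻¹ = x := fun x => by
    rw [show k * (k * (k * x * k⁻¹) * k⁻¹) * k⁻¹ = k ^ 3 * x * (k ^ 3)⁻¹ by
      simp only [pow_succ, pow_zero, one_mul, mul_inv_rev, mul_assoc], h.cube]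
    simp
  -- two commutator values
  have hval : ∀ (v d : G), v ∈ P → (∀ x ∈ P, ⁅v, x⁆ = 1 ∨ ⁅v, x⁆ = d) →
      ∀ x ∈ P, ⁅k * v * k⁻¹, x⁆ = 1 ∨ ⁅k * v * k⁻¹, x⁆ = k * d * k⁻¹ := by
    intro v d hv hd x hx
    have hx' : x = k * (k⁻¹ * x * k) * k⁻¹ := by group
    rw [hx', hconj]
    rcases hd _ (h.maps_inv hx) with e' | e' <;> rw [e']
    · exact Or.inl (by simp)
    · exact Or.inr rfl
  have hincl : ∀ (v d : G), v ∈ P → d ∈ P → d ≠ 1 → (∀ x ∈ P, ⁅v, x⁆ = 1 ∨ ⁅v, x⁆ = d) →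
      ∀ x ∈ P, ⁅v, x⁆ = 1 → ⁅k * v * k⁻¹, x⁆ = 1 := by
    intro v d hv hdP hd1 hd x hx hvx
    rcases hval v d hv hd x hx with e' | e'
    · exact e'
    exfalso
    have hn : ⁅v * (k * v * k⁻¹) * (k * (k * v * k⁻¹) * k⁻¹), x⁆ = 1 := by
      rw [h.norm_eq hv, commutatorElement_def]; group
    rw [hmull _ _ _ (mul_mem hv (h.maps v hv)) (h.maps _ (h.maps v hv)) hx,
      hmull _ _ _ hv (h.maps v hv) hx, hvx, one_mul, e'] at hn
    rcases hval _ _ (h.maps v hv) (hval v d hv hd) x hx with e'' | e'' <;> rw [e''] at hn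
    · exact hd1 (by simpa using hn)
    · have h4 : d * (k * d * k⁻¹) = 1 := by
        calc d * (k * d * k⁻¹) = k⁻¹ * (k * d * k⁻¹ * (k * (k * d * k⁻¹) * k⁻¹)) * k := by group
          _ = 1 := by rw [hn]; group
      have h5 := h.norm_eq hdP
      rw [h4, one_mul] at h5
      exact hd1 (by simpa using h5)
  have heP : e ∈ P := hex₀ ▸ (mul_mem (mul_mem (mul_mem hu hx₀) (inv_mem hu)) (inv_mem hx₀))
  have hinv : ∀ x ∈ P, ⁅u, x⁆ = 1 → ⁅u, k * x * k⁻¹⁆ = 1 := by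
    intro x hx hux
    have h1 : ⁅k * u * k⁻¹, k * x * k⁻¹⁆ = 1 := by rw [hconj, hux]; simp
    have hke : k * e * k⁻¹ ≠ 1 := fun e' => he1 (by simpa using e')
    have hkke : k * (k * e * k⁻¹) * k⁻¹ ≠ 1 := fun e' => hke (by simpa using e')
    have h2 := hincl _ _ (h.maps u hu) (h.maps e heP) hke (hval u e hu he) _ (h.maps x hx) h1
    have h3 := hincl _ _ (h.maps _ (h.maps u hu)) (h.maps _ (h.maps e heP)) hkke
      (hval _ _ (h.maps u hu) (hval u e hu he)) _ (h.maps x hx) h2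
    rwa [hcube] at h3
  have hne2 : ∀ x ∈ P, ⁅u, x⁆ = e → ⁅u, k * x * k⁻¹⁆ = e := by
    intro x hx hux
    refine (he _ (h.maps x hx)).resolve_left fun e' => he1 ?_
    have h3 := hinv _ (h.maps _ (h.maps x hx)) (hinv _ (h.maps x hx) e')
    rw [hcube, hux] at h3
    exact h3
  have h1 := hne2 x₀ hx₀ hex₀
  have h2 := hne2 _ (h.maps x₀ hx₀) h1
  have hsq : e * e = 1 := by
    have hm := hmulr u x₀ x₀ hu hx₀ hx₀
    rw [hex₀] at hm
    rcases he _ (mul_mem hx₀ hx₀) with e' | e' <;> rw [e'] at hm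
    · exact hm.symm
    · exact absurd (mul_eq_left.1 hm.symm) he1
  have hn : ⁅u, x₀ * (k * x₀ * k⁻¹) * (k * (k * x₀ * k⁻¹) * k⁻¹)⁆ = 1 := by
    rw [h.norm_eq hx₀, commutatorElement_def]; group
  rw [hmulr u _ _ hu (mul_mem hx₀ (h.maps _ hx₀)) (h.maps _ (h.maps _ hx₀)),
    hmulr u _ _ hu hx₀ (h.maps _ hx₀), hex₀, h1, h2, hsq, one_mul] at hn
  exact he1 hn

/-- An element of `P` moved into the centraliser of the inverting element is trivial. -/
theorem eq_one_of_commute (h : Turn T P k) {w : G} (hw : w ∈ P)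
    (hc : ∀ t ∈ T, t * w = w * t) (hc' : ∀ t ∈ T, t * (k * w * k⁻¹) = (k * w * k⁻¹) * t) :
    w = 1 := by
  obtain ⟨t, ht, -, htk⟩ := h.invert
  refine h.fpf w hw ?_
  have h2 : k⁻¹ * w * k = k * w * k⁻¹ := by
    calc k⁻¹ * w * k = (t * k * t⁻¹) * (t * w * t⁻¹) * (t * k * t⁻¹)⁻¹ := by
          rw [htk, inv_inv, hc t ht, mul_inv_cancel_right]
      _ = t * (k * w * k⁻¹) * t⁻¹ := by group
      _ = k * w * k⁻¹ := by rw [hc' t ht, mul_inv_cancel_right]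
  have h3 : Commute (k ^ 2) w := by
    show k ^ 2 * w = w * k ^ 2
    calc k ^ 2 * w = k * (k * w * k⁻¹) * k := by rw [pow_two]; group
      _ = k * (k⁻¹ * w * k) * k := by rw [h2]
      _ = w * k ^ 2 := by rw [pow_two]; group
  have h4 := h3.pow_left 2
  rw [← pow_mul, show (2 * 2 : ℕ) = 3 + 1 by norm_num, pow_succ, h.cube, one_mul] at h4
  exact h4.eq

end Turn

theorem comm_of_pair [Finite G] {T P Q : Subgroup G} {k l : G} (hT : IsPGroup 2 ↥T)
    (h : Turn T P k) (h' : Turn T Q l) (hne : P ≠ Q) :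
    (∀ a ∈ P, ∀ b ∈ P, a * b = b * a) ∧ ∃ y ∈ Q, y ∉ P := by
  obtain ⟨y, hyQ, hyP⟩ : ∃ y ∈ Q, y ∉ P := by
    by_contra hcon
    push Not at hcon
    refine hne (Subgroup.eq_of_le_of_card_ge hcon ?_).symm
    have h1 := (P.subgroupOf T).card_mul_index
    have h2 := (Q.subgroupOf T).card_mul_index
    rw [Nat.card_congr (subgroupOfEquivOfLe h.le).toEquiv,
      show (P.subgroupOf T).index = 2 from h.index] at h1
    rw [Nat.card_congr (subgroupOfEquivOfLe h'.le).toEquiv,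
      show (Q.subgroupOf T).index = 2 from h'.index] at h2
    omega
  refine ⟨?_, y, hyQ, hyP⟩
  have hcomT : ∀ a ∈ P, ∀ b ∈ P, ∀ t ∈ T, t * ⁅a, b⁆ = ⁅a, b⁆ * t := by
    intro a ha b hb
    have huP : ⁅a, b⁆ ∈ P := h.commutator_mem (h.le ha) (h.le hb)
    have huQ : ⁅a, b⁆ ∈ Q := h'.commutator_mem (h.le ha) (h.le hb)
    have hQ : ∀ x ∈ Q, ⁅⁅a, b⁆, x⁆ = 1 ∨ ⁅⁅a, b⁆, x⁆ = ⁅⁅a, b⁆, y⁆ := by
      intro x hx
      by_cases hxP : x ∈ P
      · exact Or.inl (commutatorElement_eq_one_iff_mul_comm.2 (h.class_two hT ha hb hxP).eq)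
      · refine Or.inr ?_
        have hd : y⁻¹ * x ∈ P := by
          rw [h.mul_mem_iff (inv_mem (h'.le hyQ)) (h'.le hx), inv_mem_iff]; tauto
        have hc : ⁅⁅a, b⁆, y⁻¹ * x⁆ = 1 :=
          commutatorElement_eq_one_iff_mul_comm.2 (h.class_two hT ha hb hd).eq
        calc ⁅⁅a, b⁆, x⁆ = ⁅⁅a, b⁆, y⁆ * (y * ⁅⁅a, b⁆, y⁻¹ * x⁆ * y⁻¹) := by
              simp only [commutatorElement_def]; group
          _ = _ := by rw [hc]; group
    have hcQ := h'.central_of_two hT huQ hQ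
    intro t ht
    by_cases htP : t ∈ P
    · exact (h.class_two hT ha hb htP).eq.symm
    · have hd : y⁻¹ * t ∈ P := by
        rw [h.mul_mem_iff (inv_mem (h'.le hyQ)) ht, inv_mem_iff]; tauto
      have e1 := (h.class_two hT ha hb hd).eq
      calc t * ⁅a, b⁆ = y * ((y⁻¹ * t) * ⁅a, b⁆) := by group
        _ = y * (⁅a, b⁆ * (y⁻¹ * t)) := by rw [e1]
        _ = (y * ⁅a, b⁆) * (y⁻¹ * t) := by group
        _ = (⁅a, b⁆ * y) * (y⁻¹ * t) := by rw [hcQ y hyQ]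
        _ = ⁅a, b⁆ * t := by group
  intro a ha b hb
  refine commutatorElement_eq_one_iff_mul_comm.1 (h.eq_one_of_commute
    (h.commutator_mem (h.le ha) (h.le hb)) (hcomT a ha b hb) ?_)
  rw [show k * ⁅a, b⁆ * k⁻¹ = ⁅k * a * k⁻¹, k * b * k⁻¹⁆ by
    simp only [commutatorElement_def]; group]
  exact hcomT _ (h.maps a ha) _ (h.maps b hb)

/-- The pair lemma. -/
theorem card_eq_four_of_pair [Finite G] {T P Q : Subgroup G} {k l : G} (hT : IsPGroup 2 ↥T)
    (h : Turn T P k) (h' : Turn T Q l) (hne : P ≠ Q) : Nat.card P = 4 := by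
  obtain ⟨hPc, y, hyQ, hyP⟩ := comm_of_pair hT h h' hne
  obtain ⟨hQc, -⟩ := comm_of_pair hT h' h hne.symm
  set D := Q ⊓ P with hD
  have hDc : ∀ d ∈ D, ∀ t ∈ T, t * d = d * t := by
    intro d hd t ht
    by_cases htP : t ∈ P
    · exact hPc t htP d hd.2
    · have hz : y⁻¹ * t ∈ P := by
        rw [h.mul_mem_iff (inv_mem (h'.le hyQ)) ht, inv_mem_iff]; tauto
      calc t * d = y * ((y⁻¹ * t) * d) := by group
        _ = y * (d * (y⁻¹ * t)) := by rw [hPc _ hz d hd.2]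
        _ = (y * d) * (y⁻¹ * t) := by group
        _ = (d * y) * (y⁻¹ * t) := by rw [hQc y hyQ d hd.1]
        _ = d * t := by group
  let f : ↥D × ↥D → ↥P := fun p => ⟨(p.1 : G) * (k * p.2 * k⁻¹),
    mul_mem p.1.2.2 (h.maps _ p.2.2.2)⟩
  have hf : Function.Injective f := by
    rintro ⟨a, b⟩ ⟨a', b'⟩ e
    have e' : (a : G) * (k * b * k⁻¹) = a' * (k * b' * k⁻¹) := congrArg Subtype.val e
    have hw : k * ((b : G) * (b' : G)⁻¹) * k⁻¹ = (a : G)⁻¹ * a' := by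
      calc k * ((b : G) * (b' : G)⁻¹) * k⁻¹
          = (a : G)⁻¹ * ((a : G) * (k * b * k⁻¹)) * (k * b' * k⁻¹)⁻¹ := by group
        _ = _ := by rw [e']; group
    have h1 : (b : G) * (b' : G)⁻¹ = 1 := h.eq_one_of_commute
      (mul_mem b.2 (inv_mem b'.2)).2 (hDc _ (mul_mem b.2 (inv_mem b'.2))) (by
        rw [hw]; exact hDc _ (mul_mem (inv_mem a.2) a'.2))
    rw [h1, mul_one, mul_inv_cancel, eq_comm] at hw
    exact Prod.ext (Subtype.ext (inv_mul_eq_one.1 hw)) (Subtype.ext (mul_inv_eq_one.1 h1))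
  have hle := Nat.card_le_card_of_injective f hf
  rw [Nat.card_prod] at hle
  have hidx : D.relIndex P ≤ 2 := by
    rw [hD, inf_relIndex_right, ← h'.index]
    exact relIndex_le_of_le_right h.le (by rw [h'.index]; norm_num)
  have h1 := (D.subgroupOf P).card_mul_index
  rw [Nat.card_congr (subgroupOfEquivOfLe (inf_le_right : D ≤ P)).toEquiv] at h1
  change Nat.card D * D.relIndex P = _ at h1
  have hD0 : 0 < Nat.card D := Nat.card_pos
  have hP4 : Nat.card P ≤ 4 := by nlinarith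
  obtain ⟨n, hn⟩ := IsPGroup.iff_card.1 (hT.to_le h.le)
  match n with
  | 0 =>
    exfalso
    have hP1 : P = ⊥ := Subgroup.card_eq_one.1 (by rw [hn, pow_zero])
    have hyy : ∀ a ∈ P, a = 1 := fun a ha => by rwa [hP1, mem_bot] at ha
    obtain ⟨t, htT, -, -⟩ := h.invert
    have hT2 := (P.subgroupOf T).card_mul_index
    rw [Nat.card_congr (subgroupOfEquivOfLe h.le).toEquiv,
      show (P.subgroupOf T).index = 2 from h.index, hn, pow_zero, one_mul] at hT2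
    have hQ2 := (Q.subgroupOf T).card_mul_index
    rw [Nat.card_congr (subgroupOfEquivOfLe h'.le).toEquiv,
      show (Q.subgroupOf T).index = 2 from h'.index, ← hT2] at hQ2
    have hQ1 : Q = ⊥ := Subgroup.card_eq_one.1 (by omega)
    exact hne (hP1.trans hQ1.symm)
  | 1 =>
    exfalso
    haveI : Nontrivial ↥P := Finite.one_lt_card_iff_nontrivial.1 (by rw [hn]; norm_num)
    obtain ⟨⟨x, hx⟩, hx1⟩ := exists_ne (1 : ↥P)
    have hkx := h.maps x hx
    have huniq : ∀ a b : ↥P, a ≠ 1 → b ≠ 1 → a = b := by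
      intro a b ha hb
      by_contra hab
      classical
      haveI := Fintype.ofFinite ↥P
      have h3 : ({1, a, b} : Finset ↥P).card ≤ Fintype.card ↥P := Finset.card_le_univ _
      rw [← Nat.card_eq_fintype_card, hn] at h3
      simp [hab, ha.symm, hb.symm] at h3
    refine hx1 (Subtype.ext (h.fpf x hx ?_))
    refine mul_inv_eq_iff_eq_mul.1 (congrArg Subtype.val
      (huniq ⟨k * x * k⁻¹, hkx⟩ ⟨x, hx⟩ (fun e => hx1 (Subtype.ext ?_)) hx1))
    have e' : k * x * k⁻¹ = 1 := congrArg Subtype.val e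
    simpa using e'
  | 2 => rw [hn]; norm_num
  | m + 3 =>
    rw [hn] at hP4
    have : 2 ^ 3 ≤ 2 ^ (m + 3) := Nat.pow_le_pow_right (by norm_num) (by omega)
    omega

end CfsgLib.InvChar.SecNineOpen
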